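import Cfsg.Agent.Blocks.Basic
import Cfsg.Agent.Blocks.Local
import Cfsg.Agent.Blocks.BrauerHom
import Cfsg.Agent.S0909
import Cfsg.Agent.Blocks.PElements
import Cfsg.Agent.Blocks.Orthogonality
import Cfsg.Agent.Blocks.HeightZero
import Cfsg.Agent.Blocks.Osima
import Cfsg.Agent.Blocks.ExistsModular
import Cfsg.Agent.Blocks.PPart
import Cfsg.Agent.CharactersDeep.ModCongr
import Cfsg.Agent.Characters.GaloisBasic
import Cfsg.Agent.H686.CharKit

/-!
# Degree sieve tools (helper792)

* `factorization_le_of_centralChar` : `ω_χ(K) ∉ M` implies `v_p |K| ≤ v_p χ(1)`;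
* `factorization_eq_of_centralChar` : the same with equality `v_p χ(1) = v_p |K| + v_p χ(g)` for `χ(g)` an integer;
* `factorization_eq_of_mem` : the same for all members of the block;
* `degree_modEq` : `χ(1) ≡ χ(y) mod r` for `y` of prime order `r`, `χ(y)` an integer;
* `exists_degree` : Steps 1 and 3 for the Baby Monster row.
-/

set_option autoImplicit false

open Cfsg Cfsg.Agent.Blocks.Local Cfsg.Agent.Blocks.Basic

namespace Cfsg.Agent.H792.DS

variable {G : Type*} [Group G] [Finite G] {p : ℕ} {M : Ideal AlgInt}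

/-- if `ω_χ(K) ∉ M`, `K` the class of `g`, then `v_p |K| ≤ v_p χ(1)` -/
theorem factorization_le_of_centralChar (hM : IsPModular p M) {χ : G → ℂ} (hχ : IsIrrCharacter G χ) (g : G)
    (h : ¬ MemLocalIdeal M (centralChar χ g)) :
    ((Subgroup.centralizer ({g} : Set G)).index).factorization p ≤ (charDegree χ).factorization p := by
  have hMp := isPrime_of_isPModular hM
  have hp := hM.1
  by_contra hlt
  push Not at hlt
  apply h
  set k := (Subgroup.centralizer ({g} : Set G)).index with hk
  set d := charDegree χ with hd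
  have hk0 : k ≠ 0 := Subgroup.index_ne_zero_of_finite
  have hd0 : d ≠ 0 := (charDegree_pos hχ).ne'
  -- `k = p * p ^ v_p(d) * k'`, `d = p ^ v_p(d) * d'`
  obtain ⟨k', hk'⟩ : p ^ (d.factorization p + 1) ∣ k :=
    (pow_dvd_pow p hlt).trans (Nat.ordProj_dvd k p)
  obtain ⟨d', hd'⟩ : p ^ d.factorization p ∣ d := Nat.ordProj_dvd d p
  have hpd' : ¬ p ∣ d' := by
    rintro ⟨e, rfl⟩
    have h1 : p ^ (d.factorization p + 1) ∣ d := ⟨e, by rw [pow_succ, mul_assoc]; exact hd'⟩
    have h2 := (hp.pow_dvd_iff_le_factorization hd0).1 h1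
    omega
  rw [centralChar_def, irr_one_eq_charDegree hχ, ← hd, ← hk]
  have hpow : ((p : ℂ) ^ d.factorization p) ≠ 0 := pow_ne_zero _ (Nat.cast_ne_zero.2 hp.ne_zero)
  have h3 : ((k : ℂ) * χ g / (d : ℂ)) = (p : ℂ) * ((k' : ℂ) * χ g * ((d' : ℂ))⁻¹) := by
    have h4 : (k : ℂ) = (p : ℂ) ^ (d.factorization p) * p * k' := by
      rw [hk']; push_cast; ring
    have h5 : (d : ℂ) = (p : ℂ) ^ d.factorization p * d' := by
      conv_lhs => rw [hd']
      push_cast; ring
    have hd'0 : (d' : ℂ) ≠ 0 := by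
      rw [Nat.cast_ne_zero]
      rintro rfl
      exact hpd' (dvd_zero p)
    rw [h4, h5]
    field_simp
  rw [h3]
  refine memLocalIdeal_mul_right (memLocalIdeal_p hM) ?_
  refine memLocalRing_mul (memLocalRing_mul (memLocalRing_natCast k') ?_) (memLocalRing_inv_natCast hM hpd')
  exact memLocalRing_of_isIntegral (Cfsg.Agent.Blocks.PElements.isIntegral_of_isCharacter (irr_isCharacter hχ) g)

/-- if `ω_χ(K) ∉ M`, `K` the class of `g`, and `χ(g) = m` is an integer, then `v_p χ(1) = v_p |K| + v_p m` -/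
theorem factorization_eq_of_centralChar (hM : IsPModular p M) {χ : G → ℂ} (hχ : IsIrrCharacter G χ) {g : G}
    {m : ℤ} (hm : χ g = m) (h : ¬ MemLocalIdeal M (centralChar χ g)) :
    m ≠ 0 ∧ (charDegree χ).factorization p =
      ((Subgroup.centralizer ({g} : Set G)).index).factorization p + m.natAbs.factorization p := by
  have hMp := isPrime_of_isPModular hM
  have hp := hM.1
  set k := (Subgroup.centralizer ({g} : Set G)).index with hk
  set d := charDegree χ with hd
  have hk0 : k ≠ 0 := Subgroup.index_ne_zero_of_finite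
  have hd0 : d ≠ 0 := (charDegree_pos hχ).ne'
  have hdC : (d : ℂ) ≠ 0 := Nat.cast_ne_zero.2 hd0
  have hω : centralChar χ g = ((k * m / d : ℚ) : ℂ) := by
    rw [centralChar_def, irr_one_eq_charDegree hχ, ← hd, ← hk, hm]
    push_cast
    ring
  obtain ⟨n, hn⟩ := Cfsg.Agent.Characters.GaloisBasic.exists_int_of_isIntegral
    (Cfsg.Agent.Blocks.HeightZero.isIntegral_centralChar (⟨χ, hχ⟩ : IrrCharacter G) g) ⟨_, hω⟩
  have hpn : ¬ (p : ℤ) ∣ n := fun hdvd => h (by rw [hn]; exact (memLocalIdeal_intCast_iff hM n).2 hdvd)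
  have hn0 : n ≠ 0 := fun h0 => hpn (h0 ▸ dvd_zero _)
  have heq : (k : ℤ) * m = d * n := by
    have h1 : (k : ℂ) * m = d * n := by
      rw [← hn, hω]
      push_cast
      field_simp
    exact_mod_cast h1
  have hm0 : m ≠ 0 := by
    rintro rfl
    rw [mul_zero] at heq
    rcases mul_eq_zero.1 heq.symm with h1 | h1
    · exact hd0 (by exact_mod_cast h1)
    · exact hn0 h1
  refine ⟨hm0, ?_⟩
  have habs : k * m.natAbs = d * n.natAbs := by
    have h1 := congrArg Int.natAbs heq
    rwa [Int.natAbs_mul, Int.natAbs_mul, Int.natAbs_natCast, Int.natAbs_natCast] at h1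
  have h1 := congrArg (fun t : ℕ => t.factorization p) habs
  beta_reduce at h1
  rw [Nat.factorization_mul hk0 (Int.natAbs_ne_zero.2 hm0),
    Nat.factorization_mul hd0 (Int.natAbs_ne_zero.2 hn0), Finsupp.add_apply, Finsupp.add_apply,
    Nat.factorization_eq_zero_of_not_dvd (n := n.natAbs) (p := p)
      (fun h2 => hpn (Int.natCast_dvd.2 h2)), add_zero] at h1
  exact h1.symm

/-- **All members of the block.** -/
theorem factorization_eq_of_mem (hM : IsPModular p M) {χ : IrrCharacter G} {g : G}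
    (h : ¬ MemLocalIdeal M (centralChar (χ : G → ℂ) g)) {ψ : IrrCharacter G} (hψ : ψ ∈ blockOf M (χ : G → ℂ))
    {m : ℤ} (hm : (ψ : G → ℂ) g = m) :
    m ≠ 0 ∧ (charDegree (ψ : G → ℂ)).factorization p =
      ((Subgroup.centralizer ({g} : Set G)).index).factorization p + m.natAbs.factorization p := by
  have hMp := isPrime_of_isPModular hM
  refine factorization_eq_of_centralChar hM ψ.2 hm fun h1 => h ?_
  have h2 := memLocalIdeal_add (hψ g) h1
  rwa [sub_add_cancel] at h2

/-- `χ(1) ≡ χ(y)` modulo the prime order of `y` if `χ(y)` is an integer -/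
theorem degree_modEq {r : ℕ} (hr : r.Prime) {χ : G → ℂ} (hχ : IsIrrCharacter G χ) {y : G} (hy : orderOf y = r)
    {m : ℤ} (hm : χ y = m) : (charDegree χ : ℤ) ≡ m [ZMOD r] := by
  have : Fact r.Prime := ⟨hr⟩
  obtain ⟨M, hM⟩ := Cfsg.Agent.Blocks.ExistsModular.exists_isPModular hr
  have hMp := isPrime_of_isPModular hM
  have h := Cfsg.Agent.CharactersDeep.ModCongr.memLocalIdeal_character_sub hM hχ y y
    (Cfsg.Agent.Blocks.PPart.isPPart_of_isPGroup ⟨1, by rw [hy, pow_one]⟩)
  rw [inv_mul_cancel, hm, irr_one_eq_charDegree hχ] at h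
  have h2 : MemLocalIdeal M (((m - charDegree χ : ℤ)) : ℂ) := by
    push_cast
    exact h
  rw [memLocalIdeal_intCast_iff hM] at h2
  exact Int.modEq_iff_dvd.2 h2

/-- **Steps 1 and 3.**  `y` of order `13`, `s` with `y s` of even order; the values of every irreducible character on
`(y, y s)` are `(0, 0)` or `± (1, 1)`, `± (2, 2)`, `± (3, -1)` (the characters `1, sgn, 2, 3, 3'` of `S₄` at `1` and at a
double transposition); some `χ` has a central character at `y` outside `M`; the degrees allowed by the sieve are the five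
numbers `d₁, …, d₅`. Then one of the three degrees `d₁, d₂, d₄` occurs. -/
theorem exists_degree {M : Ideal AlgInt} (hM : IsPModular 2 M) {y s : G} (hy : orderOf y = 13)
    (hys : 2 ∣ orderOf (y * s))
    (hidx : ((Subgroup.centralizer ({y} : Set G)).index).factorization 2 = 38)
    (hval : ∀ χ : IrrCharacter G, ((χ : G → ℂ) y = 0 ∧ (χ : G → ℂ) (y * s) = 0) ∨
      ∃ ε : ℤ, (ε = 1 ∨ ε = -1) ∧
        ((χ : G → ℂ) y = ε ∧ (χ : G → ℂ) (y * s) = ε ∨
          (χ : G → ℂ) y = ((2 * ε : ℤ) : ℂ) ∧ (χ : G → ℂ) (y * s) = ((2 * ε : ℤ) : ℂ) ∨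
          (χ : G → ℂ) y = ((3 * ε : ℤ) : ℂ) ∧ (χ : G → ℂ) (y * s) = ((-ε : ℤ) : ℂ)))
    (hFE : ∃ χ : IrrCharacter G, ¬ MemLocalIdeal M (centralChar (χ : G → ℂ) y))
    (hsieve : ∀ (χ : IrrCharacter G) (m : ℤ), (χ : G → ℂ) y = m →
      ((m.natAbs = 1 ∨ m.natAbs = 3) ∧ (charDegree (χ : G → ℂ)).factorization 2 = 38 ∨
        m.natAbs = 2 ∧ (charDegree (χ : G → ℂ)).factorization 2 = 39) →
      charDegree (χ : G → ℂ) = 1321338098679808 ∨ charDegree (χ : G → ℂ) = 2642676197359616 ∨
      charDegree (χ : G → ℂ) = 9211433539600384 ∨ charDegree (χ : G → ℂ) = 10532771638280192 ∨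
      charDegree (χ : G → ℂ) = 11854109736960000)
    (hcard : Nat.card G < 1875 * 9211433539600384 ^ 2) :
    ∃ χ : IrrCharacter G, charDegree (χ : G → ℂ) = 1321338098679808 ∨
      charDegree (χ : G → ℂ) = 2642676197359616 ∨ charDegree (χ : G → ℂ) = 10532771638280192 := by
  classical
  have hMp := isPrime_of_isPModular hM
  have : Fact (Nat.Prime 2) := ⟨Nat.prime_two⟩
  have : Finite (IrrCharacter G) := S0909.finite_irr
  have := Fintype.ofFinite (IrrCharacter G)
  obtain ⟨χ₀, hχ₀⟩ := hFE
  by_contra hno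
  push Not at hno
  -- every member of the block: degree `d₃` with `ψ (y s) = e₃`, or degree `d₅` with `ψ (y s) = e₅`
  have hmem : ∀ ψ ∈ blockOf M (χ₀ : G → ℂ),
      (charDegree (ψ : G → ℂ) = 9211433539600384 ∧ (ψ : G → ℂ) (y * s) = 1) ∨
      (charDegree (ψ : G → ℂ) = 11854109736960000 ∧ (ψ : G → ℂ) (y * s) = -1) := by
    intro ψ hψ
    obtain ⟨h0, -⟩ | ⟨ε, hε, h⟩ := hval ψ
    · exact absurd rfl ((factorization_eq_of_mem hM hχ₀ hψ (m := 0) (by rw [h0, Int.cast_zero])).1)
    · have hcop : ∀ n : ℕ, (n = 1 ∨ n = 3) → n.factorization 2 = 0 := by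
        rintro n (rfl | rfl)
        · simp
        · exact Nat.factorization_eq_zero_of_not_dvd (by norm_num)
      have hno' := hno ψ
      obtain ⟨h1, h2⟩ | ⟨h1, h2⟩ | ⟨h1, h2⟩ := h
      · have hna : ε.natAbs = 1 := by rcases hε with rfl | rfl <;> rfl
        have h3 := (factorization_eq_of_mem hM hχ₀ hψ h1).2
        rw [hidx, hcop _ (Or.inl hna)] at h3
        have h4 := hsieve ψ ε h1 (Or.inl ⟨Or.inl hna, h3⟩)
        have h5 := degree_modEq (by norm_num) ψ.2 hy h1
        rcases h4 with h4 | h4 | h4 | h4 | h4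
        · exact absurd h4 hno'.1
        · exact absurd h4 hno'.2.1
        · left
          refine ⟨h4, ?_⟩
          rw [h4] at h5
          rcases hε with rfl | rfl
          · rw [h2, Int.cast_one]
          · exact absurd h5 (by decide)
        · exact absurd h4 hno'.2.2
        · exfalso
          rw [h4] at h5
          rcases hε with rfl | rfl
          · exact absurd h5 (by decide)
          · exact absurd h5 (by decide)
      · exfalso
        have hna : (2 * ε).natAbs = 2 := by rcases hε with rfl | rfl <;> rfl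
        have h3 := (factorization_eq_of_mem hM hχ₀ hψ h1).2
        rw [hidx, hna, Nat.Prime.factorization_self Nat.prime_two] at h3
        have h4 := hsieve ψ (2 * ε) h1 (Or.inr ⟨hna, h3⟩)
        have h5 := degree_modEq (by norm_num) ψ.2 hy h1
        rcases h4 with h4 | h4 | h4 | h4 | h4
        · exact hno'.1 h4
        · exact hno'.2.1 h4
        · rw [h4] at h5
          rcases hε with rfl | rfl
          · exact absurd h5 (by decide)
          · exact absurd h5 (by decide)
        · exact hno'.2.2 h4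
        · rw [h4] at h5
          rcases hε with rfl | rfl
          · exact absurd h5 (by decide)
          · exact absurd h5 (by decide)
      · have hna : (3 * ε).natAbs = 3 := by rcases hε with rfl | rfl <;> rfl
        have h3 := (factorization_eq_of_mem hM hχ₀ hψ h1).2
        rw [hidx, hcop _ (Or.inr hna)] at h3
        have h4 := hsieve ψ (3 * ε) h1 (Or.inl ⟨Or.inr hna, h3⟩)
        have h5 := degree_modEq (by norm_num) ψ.2 hy h1
        rcases h4 with h4 | h4 | h4 | h4 | h4
        · exact absurd h4 hno'.1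
        · exact absurd h4 hno'.2.1
        · exfalso
          rw [h4] at h5
          rcases hε with rfl | rfl
          · exact absurd h5 (by decide)
          · exact absurd h5 (by decide)
        · exact absurd h4 hno'.2.2
        · right
          refine ⟨h4, ?_⟩
          rw [h4] at h5
          rcases hε with rfl | rfl
          · rw [h2, Int.cast_neg, Int.cast_one]
          · exact absurd h5 (by decide)
  -- weak block orthogonality
  have hB : IsPBlock M (blockOf M (χ₀ : G → ℂ)) := isPBlock_blockOf χ₀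
  have horth := Cfsg.Agent.Blocks.Orthogonality.weak_block_orthogonality hM (blockOf M (χ₀ : G → ℂ))
    (Cfsg.Agent.Blocks.Osima.memLocalRing_blockCoeff hM hB) (x := (1 : G)) (y := y * s)
    (by rw [orderOf_one]; norm_num) hys
  rw [finsum_mem_eq_finite_toFinset_sum _ (Set.toFinite _)] at horth
  set S := (Set.toFinite (blockOf M (χ₀ : G → ℂ))).toFinset with hS
  have hSmem : ∀ ψ, ψ ∈ S ↔ ψ ∈ blockOf M (χ₀ : G → ℂ) := fun ψ => by rw [hS, Set.Finite.mem_toFinset]
  have hsum : ∑ ψ ∈ S, (ψ : G → ℂ) 1 * (starRingEnd ℂ) ((ψ : G → ℂ) (y * s)) =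
      ∑ ψ ∈ S, if charDegree (ψ : G → ℂ) = 9211433539600384 then (9211433539600384 : ℂ) else
        -11854109736960000 := by
    refine Finset.sum_congr rfl fun ψ hψ => ?_
    rw [irr_one_eq_charDegree ψ.2]
    rcases hmem ψ ((hSmem ψ).1 hψ) with ⟨h1, h2⟩ | ⟨h1, h2⟩
    · rw [h1, h2, if_pos rfl, map_one, mul_one]
      norm_num
    · rw [h1, h2, if_neg (by norm_num), map_neg, map_one]
      norm_num
  rw [hsum, Finset.sum_ite, Finset.sum_const, Finset.sum_const, nsmul_eq_mul, nsmul_eq_mul] at horth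
  set a := (S.filter fun ψ : IrrCharacter G => charDegree (ψ : G → ℂ) = 9211433539600384).card with ha
  set b := (S.filter fun ψ : IrrCharacter G => ¬ charDegree (ψ : G → ℂ) = 9211433539600384).card with hb
  have hab : a * 9211433539600384 = b * 11854109736960000 := by
    have h1 : (a : ℂ) * 9211433539600384 = b * 11854109736960000 := by linear_combination horth
    exact_mod_cast h1
  have hpos : 0 < a + b := by
    rw [ha, hb, Finset.card_filter_add_card_filter_not, Finset.card_pos]
    exact ⟨χ₀, (hSmem _).2 (mem_blockOf_self χ₀)⟩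
  have h1875 : 1875 ∣ a := by omega
  have ha0 : 0 < a := by omega
  have ha1 : 1875 ≤ a := Nat.le_of_dvd ha0 h1875
  have hle : ∑ ψ ∈ S.filter (fun ψ : IrrCharacter G => charDegree (ψ : G → ℂ) = 9211433539600384),
      charDegree (ψ : G → ℂ) ^ 2 ≤ ∑ ψ : IrrCharacter G, charDegree (ψ : G → ℂ) ^ 2 :=
    Finset.sum_le_sum_of_subset (Finset.subset_univ _)
  rw [Cfsg.Agent.H686.CharKit.sum_deg_sq, Finset.sum_congr rfl (g := fun _ => 9211433539600384 ^ 2)
    (fun ψ hψ => by rw [(Finset.mem_filter.1 hψ).2]), Finset.sum_const, smul_eq_mul, ← ha] at hle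
  have h2 : 1875 * 9211433539600384 ^ 2 ≤ a * 9211433539600384 ^ 2 := Nat.mul_le_mul_right _ ha1
  exact absurd hcard (not_lt.2 (h2.trans hle))

end Cfsg.Agent.H792.DS
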